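import Cfsg.Agent.Lib.LyonsFusion.Model
import Cfsg.Agent.Lib.LyonsOut.Excl

/-!
# The table inside the Lyons group

* `gen`, `el` : the generators and the 256 elements
* `el_rmul`, `el_m`, `el_injective` : given that the representation is faithful
-/

set_option autoImplicit false
set_option maxRecDepth 100000
set_option Elab.async false

open Cfsg

namespace Cfsg.Agent.LyonsFusion

open Cfsg.Agent.CosetEnum (lane force force_eq)
open Cfsg.Agent.LyPresented (IsRep mmul mkPack)
open Cfsg.Agent.Lyons (M111 lmat pone pone_rep pword pword_rep rep_num_unique wordLy phi phi_ev)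
open Matrix

/-- The word of a generator. -/
def gw (j : ℕ) : List ℕ := genW.getD j []

/-- A generator. -/
noncomputable def gen (j : ℕ) : Spor.Ly := wordLy (gw j)

/-- An element of the table. -/
noncomputable def el (a : ℕ) : Spor.Ly := ((word a).map gen).prod

/-- The matrix of an element of the group. -/
noncomputable def mat (g : Spor.Ly) : M111 := ((phi g : GL (Fin 111) (ZMod 5)) : M111)

theorem mat_mul (g h : Spor.Ly) : mat (g * h) = mat g * mat h := by simp [mat]

/-- An entry of a vector of the orbit. -/
noncomputable def ventry (a k : ℕ) : ℕ := lane 3 (lane 333 orbTab a) k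

/-- A vector of the orbit. -/
noncomputable def vec (a : ℕ) : Fin 111 → ZMod 5 := fun k => (ventry a k : ZMod 5)

/-- Rows `111 k ..` of the orbit, permuted by `f`, padded with zero. -/
noncomputable def block (f : ℕ → ℕ) (k : ℕ) : ℕ :=
  mkPack 111 fun i c => bif Nat.blt (111 * k + i) 256 then ventry (f (111 * k + i)) c else 0

/-- The check of one generator. -/
noncomputable def genOK (j : ℕ) : Bool :=
  (gw j).all (fun q => Nat.blt q 20) && force (pword (gw j)) fun G =>
    (List.range 3).all fun k => Nat.beq (mmul 111 (block (fun a => a) k) G) (block (rmul j) k)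

theorem gen_check0 : genOK 0 = true := by decide +kernel

theorem gen_check1 : genOK 1 = true := by decide +kernel

theorem gen_check2 : genOK 2 = true := by decide +kernel

theorem vec_gen {j : ℕ} (hj : j < 3) {a : ℕ} (ha : a < 256) : vec a ᵥ* mat (gen j) = vec (rmul j a) := by
  have h : genOK j = true := by
    interval_cases j
    exacts [gen_check0, gen_check1, gen_check2]
  simp only [genOK, force_eq, Bool.and_eq_true, List.all_eq_true, List.mem_range, Nat.blt_eq, Nat.beq_eq] at h
  have hrep : IsRep 111 (pword (gw j)) (mat (gen j)) := by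
    rw [mat, gen, phi_ev _ h.1]; exact pword_rep _
  have hmul := (IsRep.mk 111 fun i c =>
    bif Nat.blt (111 * (a / 111) + i) 256 then ventry (111 * (a / 111) + i) c else 0).mul (by norm_num) hrep
  have hb := h.2 (a / 111) (by omega)
  simp only [block] at hb
  rw [hb] at hmul
  have e := hmul.unique (IsRep.mk 111 fun i c =>
    bif Nat.blt (111 * (a / 111) + i) 256 then ventry (rmul j (111 * (a / 111) + i)) c else 0)
  funext c
  have e2 := congrFun (congrFun e ⟨a % 111, Nat.mod_lt _ (by norm_num)⟩) c
  have hlt : Nat.blt (111 * (a / 111) + a % 111) 256 = true := by rw [Nat.div_add_mod, Nat.blt_eq]; exact ha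
  simp only [Matrix.mul_apply, Matrix.of_apply] at e2
  rw [hlt] at e2
  simp only [cond_true, Nat.div_add_mod] at e2
  simp only [Matrix.vecMul, dotProduct, vec]
  exact e2

theorem vec_el (hw : ∀ {b : ℕ}, b < 256 → ∀ j ∈ word b, j < 3) {b : ℕ} (hb : b < 256) :
    ∀ {a : ℕ}, a < 256 → vec a ᵥ* mat (el b) = vec (m a b) := by
  have key : ∀ {w : List ℕ}, (∀ j ∈ w, j < 3) → ∀ {a : ℕ}, a < 256 →
      vec a ᵥ* mat (w.map gen).prod = vec (follow w a) := by
    intro w
    induction w with
    | nil => intro _ a _; simp [mat, follow]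
    | cons j w ih =>
      intro h a ha
      rw [List.map_cons, List.prod_cons, mat_mul, ← Matrix.vecMul_vecMul, vec_gen (h j List.mem_cons_self) ha,
        ih (fun i hi => h i (List.mem_cons_of_mem _ hi)) ((base_spec ha).2.2.2.2 j (h j List.mem_cons_self)).1]
      simp [follow, force_eq]
  intro a ha
  exact key (hw hb) ha

/-- The selected vectors form a basis. -/
noncomputable def spanOK : Bool :=
  ((List.range 111).all fun i => Nat.blt (lane 8 selTab i) 256) &&
    Nat.beq (mmul 111 (mkPack 111 fun i c => lane 3 (lane 333 invTab i) c)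
      (mkPack 111 fun i c => ventry (lane 8 selTab i) c)) pone

theorem span_check : spanOK = true := by decide +kernel

theorem mat_ext {A B : M111} (h : ∀ a < 256, vec a ᵥ* A = vec a ᵥ* B) : A = B := by
  have hs := span_check
  simp only [spanOK, Bool.and_eq_true, List.all_eq_true, List.mem_range, Nat.blt_eq, Nat.beq_eq] at hs
  have hI := (IsRep.mk 111 fun i c => lane 3 (lane 333 invTab i) c).mul (by norm_num)
    (IsRep.mk 111 fun i c => ventry (lane 8 selTab i) c)
  rw [hs.2] at hI
  have e := hI.unique pone_rep
  have hrow : (Matrix.of fun i c : Fin 111 => (ventry (lane 8 selTab i) c : ZMod 5)) * A =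
      (Matrix.of fun i c : Fin 111 => (ventry (lane 8 selTab i) c : ZMod 5)) * B := by
    ext i c
    have h2 := congrFun (h _ (hs.1 i i.2)) c
    simp only [Matrix.vecMul, dotProduct, vec] at h2
    simp only [Matrix.mul_apply, Matrix.of_apply]
    exact h2
  calc A = 1 * A := (one_mul A).symm
    _ = 1 * B := by rw [← e, mul_assoc, hrow, ← mul_assoc]
    _ = B := one_mul B

/-- The vectors are distinct. -/
noncomputable def distinctOK : Bool :=
  (List.range 256).all fun b => force (lane 333 orbTab b) fun x =>
    ((List.range b).all fun a => !(Nat.beq (lane 333 orbTab a) x)) &&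
      (List.range 111).all fun k => Nat.blt (lane 3 x k) 5

theorem distinct_check : distinctOK = true := by decide +kernel

theorem lane333_inj {x y : ℕ} (hx : x < 2 ^ 333) (hy : y < 2 ^ 333)
    (h : ∀ k < 111, lane 3 x k = lane 3 y k) : x = y := by
  rw [← CosetEnum.pack_lane (B := 3) (N := 111) (V := x) (by norm_num) (by simpa using hx),
    ← CosetEnum.pack_lane (B := 3) (N := 111) (V := y) (by norm_num) (by simpa using hy)]
  exact CosetEnum.pack_congr h

theorem vec_inj {a b : ℕ} (ha : a < 256) (hb : b < 256) (h : vec a = vec b) : a = b := by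
  have hd : ∀ b < 256, (∀ a < b, lane 333 orbTab a ≠ lane 333 orbTab b) ∧ ∀ k < 111, ventry b k < 5 := by
    intro b hb
    have h := List.all_eq_true.1 distinct_check b (List.mem_range.2 hb)
    simp only [force_eq, Bool.and_eq_true, List.all_eq_true, List.mem_range, Bool.not_eq_true', Nat.blt_eq] at h
    exact ⟨fun a ha e => by have := h.1 a ha; rw [e, Nat.beq_refl] at this; simp at this, h.2⟩
  have e : lane 333 orbTab a = lane 333 orbTab b := by
    refine lane333_inj (CosetEnum.lane_lt _ _ _) (CosetEnum.lane_lt _ _ _) fun k hk => ?_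
    have h2 := congrFun h ⟨k, hk⟩
    simp only [vec, ZMod.natCast_eq_natCast_iff'] at h2
    rwa [Nat.mod_eq_of_lt ((hd a ha).2 k hk), Nat.mod_eq_of_lt ((hd b hb).2 k hk)] at h2
  rcases lt_trichotomy a b with hlt | h3 | hlt
  · exact absurd e ((hd b hb).1 a hlt)
  · exact h3
  · exact absurd e.symm ((hd a ha).1 b hlt)

theorem el_injective {a b : ℕ} (ha : a < 256) (hb : b < 256) (h : el a = el b) : a = b := by
  have h1 := vec_el (fun hb => (base_spec hb).1) ha (show (0 : ℕ) < 256 by norm_num)
  have h2 := vec_el (fun hb => (base_spec hb).1) hb (show (0 : ℕ) < 256 by norm_num)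
  rw [h] at h1
  have h3 : vec (m 0 a) = vec (m 0 b) := h1.symm.trans h2
  rw [m, m, (base_spec ha).2.1, (base_spec hb).2.1] at h3
  exact vec_inj ha hb h3

theorem el_rmul (hphi : Function.Injective phi) {j : ℕ} (hj : j < 3) {a : ℕ} (ha : a < 256) :
    el (rmul j a) = el a * gen j := by
  refine hphi (Units.ext (mat_ext fun b hb => ?_))
  have hr := ((base_spec ha).2.2.2.2 j hj).1
  show vec b ᵥ* mat (el (rmul j a)) = vec b ᵥ* mat (el a * gen j)
  rw [mat_mul, ← Matrix.vecMul_vecMul, vec_el (fun hb => (base_spec hb).1) ha hb,
    vec_el (fun hb => (base_spec hb).1) hr hb, vec_gen hj (m_lt hb ha)]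
  congr 1
  rw [m, m, show rmul j (follow (word a) b) = follow (word a ++ [j]) b by
    rw [follow_append]; simp [follow, force_eq]]
  refine follow_congr (base_spec hr).1 (fun i hi => ?_) ?_ hb
  · rcases List.mem_append.1 hi with h | h
    · exact (base_spec ha).1 i h
    · rw [List.mem_singleton.1 h]; exact hj
  · rw [(base_spec hr).2.1, follow_append, (base_spec ha).2.1]; simp [follow, force_eq]

theorem el_m (hphi : Function.Injective phi) {a b : ℕ} (ha : a < 256) (hb : b < 256) :
    el (m a b) = el a * el b := by
  have key : ∀ {w : List ℕ}, (∀ j ∈ w, j < 3) → ∀ {a : ℕ}, a < 256 →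
      el (follow w a) = el a * (w.map gen).prod := by
    intro w
    induction w with
    | nil => intro _ a _; simp [follow]
    | cons j w ih =>
      intro h a ha
      have hj := h j List.mem_cons_self
      simp only [follow, force_eq]
      rw [ih (fun i hi => h i (List.mem_cons_of_mem _ hi)) ((base_spec ha).2.2.2.2 j hj).1, el_rmul hphi hj ha,
        List.map_cons, List.prod_cons, mul_assoc]
  exact key (base_spec hb).1 ha

end Cfsg.Agent.LyonsFusion
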