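import Cfsg.Agent.Lib.LyonsFusion.Embed
import Cfsg.Agent.Lib.Fusion.Group
import Cfsg.Agent.Lib.Fusion3.Equiv
import Cfsg.Agent.Lib.FusionNormal.Basic
import Cfsg.Agent.Lib.PGroup.Basic
import Cfsg.Agent.Lib.PAutPrime.Basic

/-!
# The 2-fusion system of the Lyons group is simple

* `card_aut_two` : every automorphism of the Sylow subgroup has 2-power order
* `fusion_simple` : for a simple Ly with `2 ^ 9` not dividing the order
* `fusion_simple_of_iso` : transported
-/

set_option autoImplicit false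
set_option maxRecDepth 100000

open Cfsg

namespace Cfsg.Agent.LyonsFusion

open Cfsg.Agent.CosetEnum (lane force force_eq)
open Cfsg.Agent.LyPresented (IsRep mmul)
open Cfsg.Agent.Lyons (M111 lmat pone pone_rep pword pword_rep rep_num_unique wordLy phi phi_ev)
open Cfsg.Agent.LyonsOut (pk pk_rep bits7 bitsVal)

/-- Simplicity of the fusion system passes to a conjugate Sylow subgroup. -/
theorem isSimple_smul {G : Type*} [Group G] [Finite G] {p : ℕ} [Fact p.Prime] (g : G) (S : Sylow p G)
    (h : (groupFusionSystem (S : Subgroup G)).IsSimple p) :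
    (groupFusionSystem ((g • S : Sylow p G) : Subgroup G)).IsSimple p := by
  let e : G ≃* G := MulAut.conj g
  have hι : (groupFusionSystem (S : Subgroup G)).IsRealizedBy
      (e.toMonoidHom.comp (S : Subgroup G).subtype) := by
    refine ⟨e.injective.comp (Subgroup.subtype_injective _), fun P hP φ hφ => ⟨?_, ?_⟩⟩
    · rintro ⟨-, -, x, hx⟩
      refine ⟨e x, fun y => ?_⟩
      show e (φ y) = e x * e y * (e x)⁻¹
      rw [hx, map_mul, map_mul, map_inv]
    · rintro ⟨x, hx⟩
      refine ⟨hP, hφ, e.symm x, fun y => e.injective ?_⟩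
      have := hx y
      simp only [map_mul, map_inv, e.apply_symm_apply]
      exact this
  have h2 := (FusionIso.ofRealized hι).isSimple h
  rw [MonoidHom.range_comp, Subgroup.range_subtype] at h2
  exact h2

theorem phi_injective [IsSimpleGroup Spor.Ly] : Function.Injective phi := by
  rcases (MonoidHom.normal_ker phi).eq_bot_or_eq_top with h | h
  · exact (MonoidHom.ker_eq_bot_iff _).mp h
  exfalso
  have h1 : phi (PresentedGroup.of (LyPresented.incl .a)) = 1 := MonoidHom.mem_ker.mp (h ▸ Subgroup.mem_top _)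
  have hw : wordLy [0] = PresentedGroup.of (LyPresented.incl .a) := by
    simp [wordLy, Lyons.letterGen, LyPresented.incl]
  have h2 := phi_ev [0] (by decide)
  rw [hw, h1, Units.val_one] at h2
  have h3 : IsRep 111 (pword [0]) (1 : M111) := by rw [h2]; exact pword_rep _
  have h4 : Nat.beq (pword [0]) pone = false := by decide +kernel
  rw [rep_num_unique h3 pone_rep, Nat.beq_refl] at h4
  simp at h4

/-- A conjugation between two involutions from an odd dihedral relation. -/
theorem conj_of_odd {G : Type*} [Group G] {u w : G} (hu : u * u = 1) (hw : w * w = 1) {k : ℕ}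
    (h : (u * w) ^ (2 * k + 1) = 1) : ∃ c : G, c * w * c⁻¹ = u := by
  have hui : u⁻¹ = u := inv_eq_of_mul_eq_one_right hu
  have hwi : w⁻¹ = w := inv_eq_of_mul_eq_one_right hw
  refine ⟨(u * w) ^ (k + 1), ?_⟩
  have hrev : ∀ n : ℕ, w * ((u * w) ^ n)⁻¹ = (u * w) ^ n * w := by
    intro n
    induction n with
    | zero => simp
    | succ n ih =>
      rw [pow_succ', mul_inv_rev, ← mul_assoc, ih, mul_inv_rev, hui, hwi]
      calc (u * w) ^ n * w * (w * u) = (u * w) ^ n * (w * w) * u := by group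
        _ = (u * w) ^ n * u := by rw [hw, mul_one]
        _ = (u * w) ^ n * u * (w * w) := by rw [hw, mul_one]
        _ = (u * w) ^ n * (u * w) * w := by group
        _ = u * w * (u * w) ^ n * w := by rw [← pow_succ, ← pow_succ']
  rw [mul_assoc, hrev, ← mul_assoc, ← pow_add, show k + 1 + (k + 1) = 2 * k + 1 + 1 by ring, pow_succ, h,
    one_mul, mul_assoc, hw, mul_one]

/-- The word of an element of the table in letters. -/
def flatW (a : ℕ) : List ℕ := (word a).flatMap gw

theorem el_flatW (a : ℕ) : el a = wordLy (flatW a) := by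
  have : ∀ w : List ℕ, (w.map gen).prod = wordLy (w.flatMap gw) := by
    intro w
    induction w with
    | nil => simp [wordLy]
    | cons j w ih => rw [List.map_cons, List.prod_cons, ih, List.flatMap_cons]; simp [gen, wordLy]
  exact this _

/-- The central involution. -/
def tW : List ℕ := [0, 0, 0, 0]

/-- The conjugate of the central involution by a word of letters. -/
def conjT (h : List ℕ) : List ℕ := h ++ tW ++ HNPresented.winv h

/-- The check of the generating involutions. -/
noncomputable def invOK : Bool :=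
  (flatW 28).all (fun q => Nat.blt q 20) && Nat.beq (pword (flatW 28)) (pword tW) && Nat.beq (sq 28) 0 &&
    invs.all fun t => Nat.blt t.1 256 && Nat.beq (sq t.1) 0 && (t.2.2 % 2 == 1) && (bitsVal (bits7 t.2.2) == t.2.2) &&
      (flatW t.1 ++ conjT t.2.1).all (fun q => Nat.blt q 20) &&
      Nat.beq (pk (pword (flatW t.1 ++ conjT t.2.1)) (bits7 t.2.2)) pone

theorem inv_check : invOK = true := by decide +kernel

/-- Words in the involutions for the generators. -/
noncomputable def fromInv (c : List ℕ) : ℕ := c.foldl (fun a i => m a (invs.getD i (0, [], 0)).1) 0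

theorem gens_from_inv : (Nat.beq (fromInv [0]) (rmul 0 0) && Nat.beq (fromInv [1]) (rmul 1 0) &&
    Nat.beq (fromInv [1, 0, 2]) (rmul 2 0)) = true := by decide +kernel

section

variable (hphi : Function.Injective phi)
include hphi

theorem el_zero : el 0 = 1 := by
  have h := el_m hphi (show (0 : ℕ) < 256 by norm_num) (show (0 : ℕ) < 256 by norm_num)
  have h0 : m 0 0 = 0 := by rw [m]; exact (base_spec (by norm_num)).2.1
  rw [h0] at h
  exact left_eq_mul.1 h

/-- The subgroup of the table. -/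
noncomputable def S0 [Finite Spor.Ly] : Subgroup Spor.Ly where
  carrier := el '' {a | a < 256}
  one_mem' := ⟨0, by show (0 : ℕ) < 256; norm_num, el_zero hphi⟩
  mul_mem' := by
    rintro _ _ ⟨a, ha, rfl⟩ ⟨b, hb, rfl⟩
    exact ⟨m a b, m_lt ha hb, el_m hphi ha hb⟩
  inv_mem' := by
    rintro _ ⟨a, ha, rfl⟩
    have hp : ∀ n : ℕ, el a ^ n ∈ el '' {a | a < 256} := by
      intro n
      induction n with
      | zero => exact ⟨0, by show (0 : ℕ) < 256; norm_num, by rw [el_zero hphi, pow_zero]⟩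
      | succ n ih =>
        obtain ⟨b, hb, e⟩ := ih
        exact ⟨m b a, m_lt hb ha, by rw [el_m hphi hb ha, e, pow_succ]⟩
    have e : (el a)⁻¹ = el a ^ (orderOf (el a) - 1) := by
      refine inv_eq_of_mul_eq_one_right ?_
      rw [← pow_succ', Nat.sub_add_cancel (orderOf_pos (el a)), pow_orderOf_eq_one]
    rw [e]
    exact hp _

theorem card_S0 [Finite Spor.Ly] : Nat.card (S0 hphi) = 2 ^ 8 := by
  show Nat.card (el '' {a | a < 256} : Set Spor.Ly) = _
  have hi : Set.InjOn el (↑(Finset.range 256) : Set ℕ) := fun a ha b hb h =>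
    el_injective (Finset.mem_range.1 ha) (Finset.mem_range.1 hb) h
  have e : {a : ℕ | a < 256} = (↑(Finset.range 256) : Set ℕ) := by ext a; simp
  rw [Nat.card_coe_set_eq, e, hi.ncard_image]
  rw [Set.ncard_coe_finset, Finset.card_range]
  norm_num

theorem mem_S0 [Finite Spor.Ly] {x : Spor.Ly} : x ∈ S0 hphi ↔ ∃ a, a < 256 ∧ el a = x := Iff.rfl

theorem aut_two [Finite Spor.Ly] {S : Subgroup Spor.Ly} (hS : S = S0 hphi) (β : MulAut S) :
    ∃ k, β ^ 2 ^ k = 1 := by
  subst hS
  have hP : IsPGroup 2 (S0 hphi) := IsPGroup.of_card (card_S0 hphi)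
  suffices h : ∀ q : ℕ, q.Prime → q ∣ orderOf β → q = 2 by
    obtain ⟨k, hk⟩ : ∃ k, orderOf β = 2 ^ k :=
      ⟨_, Nat.eq_prime_pow_of_unique_prime_dvd (orderOf_pos β).ne' fun hd hdvd => h _ hd hdvd⟩
    exact ⟨k, hk ▸ pow_orderOf_eq_one β⟩
  intro q hq hdvd
  by_contra h2
  obtain ⟨σ, hσq, hσ1⟩ : ∃ σ : MulAut (S0 hphi), σ ^ q = 1 ∧ σ ≠ 1 := by
    refine ⟨β ^ (orderOf β / q), by rw [← pow_mul, Nat.div_mul_cancel hdvd, pow_orderOf_eq_one], fun e => ?_⟩
    have h1 := orderOf_dvd_of_pow_eq_one e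
    have hlt : orderOf β / q < orderOf β := Nat.div_lt_self (orderOf_pos β) hq.one_lt
    have hpos : 0 < orderOf β / q := Nat.div_pos (Nat.le_of_dvd (orderOf_pos β) hdvd) hq.pos
    have := Nat.le_of_dvd hpos h1
    omega
  let P := {a : ℕ // a < 256}
  let ι : P → S0 hphi := fun a => ⟨el a.1, a.1, a.2, rfl⟩
  have hι : Function.Bijective ι := by
    refine ⟨fun a b e => Subtype.ext (el_injective a.2 b.2 (congrArg Subtype.val e)), ?_⟩
    rintro ⟨x, a, ha, rfl⟩
    exact ⟨⟨a, ha⟩, rfl⟩
  let e := Equiv.ofBijective ι hι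
  let c : S0 hphi → ℕ := fun x => cval (e.symm x).1
  have hc8 : ∀ x, c x < 8 := fun x => (base_spec (e.symm x).2).2.2.2.1
  have hidx : ∀ x y : S0 hphi, (e.symm (x * y)).1 = m (e.symm x).1 (e.symm y).1 := fun x y => by
    refine el_injective (e.symm (x * y)).2 (m_lt (e.symm x).2 (e.symm y).2) ?_
    rw [el_m hphi (e.symm x).2 (e.symm y).2]
    have h : ∀ z : S0 hphi, el (e.symm z).1 = (z : Spor.Ly) := fun z =>
      congrArg Subtype.val (e.apply_symm_apply z)
    rw [h, h, h]
    rfl
  have hcm : ∀ x y, c (x * y) = c x ^^^ c y := fun x y => by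
    show cval _ = _
    rw [hidx, cval_m (e.symm x).2 (e.symm y).2]
  have hsq : ∀ x, c x = 0 → ∃ y, y * y = x := by
    intro x hx
    obtain ⟨y, hy, hy'⟩ := sq_of_cval_zero (e.symm x).2 hx
    refine ⟨e ⟨y, hy⟩, e.symm.injective (Subtype.ext ?_)⟩
    rw [hidx, e.symm_apply_apply]
    exact hy'
  have hdiff : ∀ x y, c x = c y → ∃ z, z * z = x⁻¹ * y := by
    intro x y h
    refine hsq _ ?_
    have h1 := hcm x (x⁻¹ * y)
    rw [mul_inv_cancel_left, h] at h1
    calc c (x⁻¹ * y) = (c y ^^^ c y) ^^^ c (x⁻¹ * y) := by rw [Nat.xor_self, Nat.zero_xor]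
      _ = 0 := by rw [Nat.xor_assoc, ← h1, Nat.xor_self]
  have hcsq : ∀ z, c (z * z) = 0 := fun z => by rw [hcm, Nat.xor_self]
  have hcongr : ∀ (τ : MulAut (S0 hphi)) (x y), c x = c y → c (τ x) = c (τ y) := by
    intro τ x y h
    obtain ⟨z, hz⟩ := hdiff x y h
    have h1 : c (τ y) = c (τ x) ^^^ c (τ z * τ z) := by
      rw [← hcm, ← map_mul, hz, map_mul, map_inv, mul_inv_cancel_left]
    rw [h1, hcsq, Nat.xor_zero]
  have hone : ∀ x : S0 hphi, x = 1 ↔ (e.symm x).1 = 0 := by
    intro x
    have h1 : (e.symm (1 : S0 hphi)).1 = 0 :=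
      el_injective (e.symm 1).2 (by norm_num)
        ((congrArg Subtype.val (e.apply_symm_apply (1 : S0 hphi))).trans (el_zero hphi).symm)
    constructor
    · rintro rfl; exact h1
    · intro h; exact e.symm.injective (Subtype.ext (h.trans h1.symm))
  have hkey : ∀ (τ : MulAut (S0 hphi)) (x : S0 hphi), key (c (τ x)) = key (c x) := by
    have hmono : ∀ (τ : MulAut (S0 hphi)) (x : S0 hphi),
        ((key (c x)).1 = true → (key (c (τ x))).1 = true) ∧
        ((key (c x)).2.1 = true → (key (c (τ x))).2.1 = true) ∧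
        ((key (c x)).2.2 = true → (key (c (τ x))).2.2 = true) := by
      intro τ x
      have hsqi : ∀ z : S0 hphi, (e.symm (z * z)).1 = sq (e.symm z).1 := fun z => hidx z z
      simp only [key, List.any_eq_true, List.mem_range, Bool.and_eq_true, Bool.not_eq_true', Nat.beq_eq]
      refine ⟨?_, ?_, ?_⟩
      all_goals rintro ⟨a, ha, h⟩
      all_goals
        set z : S0 hphi := e ⟨a, ha⟩
        have hz : (e.symm z).1 = a := by rw [e.symm_apply_apply]
        refine ⟨(e.symm (τ z)).1, (e.symm (τ z)).2, ?_⟩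
      · obtain ⟨⟨h1, h2⟩, h3⟩ := h
        refine ⟨⟨hcongr τ z x (by show cval _ = _; rw [hz, h1]), ?_⟩, ?_⟩
        · rw [← Bool.not_eq_true, Nat.beq_eq, ← hone]
          intro e1
          rw [τ.map_eq_one_iff, hone, hz] at e1
          rw [e1, Nat.beq_refl] at h2; simp at h2
        · rw [← hsqi, ← map_mul, ← hone, τ.map_eq_one_iff, hone, hsqi, hz]; exact h3
      · obtain ⟨⟨h1, h2⟩, h3⟩ := h
        refine ⟨⟨hcongr τ z x (by show cval _ = _; rw [hz, h1]), ?_⟩, ?_⟩
        · rw [← Bool.not_eq_true, Nat.beq_eq, ← hsqi, ← map_mul, ← hone]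
          intro e1
          rw [τ.map_eq_one_iff, hone, hsqi, hz] at e1
          rw [e1, Nat.beq_refl] at h2; simp at h2
        · rw [← hsqi, ← hsqi, ← map_mul, ← map_mul, ← hone, τ.map_eq_one_iff, hone, hsqi, hsqi, hz]; exact h3
      · obtain ⟨h1, h2⟩ := h
        refine ⟨hcongr τ z x (by show cval _ = _; rw [hz, h1]), ?_⟩
        rw [← Bool.not_eq_true, Nat.beq_eq, ← hsqi, ← hsqi, ← map_mul, ← map_mul, ← hone]
        intro e1
        rw [τ.map_eq_one_iff, hone, hsqi, hsqi, hz] at e1
        rw [e1, Nat.beq_refl] at h2; simp at h2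
    intro τ x
    obtain ⟨a1, a2, a3⟩ := hmono τ x
    obtain ⟨b1, b2, b3⟩ := hmono τ⁻¹ (τ x)
    rw [MulAut.inv_apply_self] at b1 b2 b3
    exact Prod.ext (Bool.eq_iff_iff.2 ⟨b1, a1⟩) (Prod.ext (Bool.eq_iff_iff.2 ⟨b2, a2⟩) (Bool.eq_iff_iff.2 ⟨b3, a3⟩))
  have hinv : ∀ x y, c (σ x) = c (σ y) → c x = c y := fun x y h => by
    have := hcongr σ⁻¹ _ _ h
    rwa [MulAut.inv_apply_self, MulAut.inv_apply_self] at this
  have h2step : ∀ x, c (σ (σ x)) = c x := by
    intro x
    rcases key_pairs (hc8 _) (hc8 _) (hc8 _) (hkey σ x).symm (hkey σ (σ x)).symm with h | h | h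
    · exact (h.trans (hcongr σ _ _ h)).symm
    · have := hinv _ _ h
      exact h.symm.trans this.symm
    · exact h.symm
  have hfix : ∀ x, c (σ x) = c x := by
    intro x
    obtain ⟨r, hr⟩ : Odd q := hq.odd_of_ne_two h2
    have heven : ∀ n : ℕ, ∀ y, c ((σ ^ (2 * n)) y) = c y := by
      intro n
      induction n with
      | zero => simp
      | succ n ih =>
        intro y
        rw [show 2 * (n + 1) = 2 * n + 2 by ring, pow_add, MulAut.mul_apply, ih,
          show σ ^ 2 = σ * σ from pow_two σ, MulAut.mul_apply, h2step]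
    have h1 := heven r (σ x)
    rw [← MulAut.mul_apply, ← pow_succ, show 2 * r + 1 = q by omega, hσq, MulAut.one_apply] at h1
    exact h1.symm
  have : Fact q.Prime := ⟨hq⟩
  have : Fact (Nat.Prime 2) := ⟨Nat.prime_two⟩
  refine hσ1 (PAutPrime.eq_one_of_frattini h2 hP σ hσq fun x => ?_)
  obtain ⟨z, hz⟩ := hdiff x (σ x) (hfix x).symm
  rw [← hz, ← pow_two]
  exact PGroup.pow_mem_frattini hP z

theorem fusion_simple_aux [Finite Spor.Ly] (S : Sylow 2 Spor.Ly)
    (hS : (S : Subgroup Spor.Ly) = S0 hphi) : (groupFusionSystem (S : Subgroup Spor.Ly)).IsSimple 2 := by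
  have : Fact (Nat.Prime 2) := ⟨Nat.prime_two⟩
  have helS : ∀ {a}, a < 256 → el a ∈ (S : Subgroup Spor.Ly) := fun ha => hS ▸ ⟨_, ha, rfl⟩
  have hcheck := inv_check
  simp only [invOK, Bool.and_eq_true, List.all_eq_true, Nat.blt_eq, Nat.beq_eq, beq_iff_eq] at hcheck
  obtain ⟨⟨⟨hl28, ht⟩, hsq28⟩, hinvs⟩ := hcheck
  have htel : el 28 = wordLy tW := by
    refine hphi (Units.ext ?_)
    rw [el_flatW, phi_ev _ hl28, phi_ev tW (by decide)]
    exact (ht ▸ pword_rep (flatW 28)).unique (pword_rep tW)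
  have hsq : ∀ {a}, a < 256 → sq a = 0 → el a * el a = 1 := fun ha h => by
    rw [← el_m hphi ha ha]; rw [show m _ _ = 0 from h, el_zero hphi]
  have hconj : ∀ t ∈ invs, ∃ g, g * el 28 * g⁻¹ = el t.1 := by
    intro t ht'
    obtain ⟨⟨⟨⟨⟨hlt, h0⟩, hodd⟩, hbits⟩, hlet⟩, hpk⟩ := hinvs t ht'
    have hh : wordLy (conjT t.2.1) = wordLy t.2.1 * el 28 * (wordLy t.2.1)⁻¹ := by
      have hsplit : ∀ v w : List ℕ, wordLy (v ++ w) = wordLy v * wordLy w := fun v w => by simp [wordLy]
      have hh20 : ∀ q ∈ t.2.1, q < 20 := fun q hq =>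
        hlet q (List.mem_append_right _ (List.mem_append_left _ (List.mem_append_left _ hq)))
      have hwinv : ∀ v : List ℕ, (∀ q ∈ v, q < 20) → wordLy (HNPresented.winv v) = (wordLy v)⁻¹ := by
        intro v
        induction v with
        | nil => intro _; simp [HNPresented.winv, wordLy]
        | cons q v ih =>
          intro h
          have hq := h q List.mem_cons_self
          rw [show HNPresented.winv (q :: v) = HNPresented.winv v ++ HNPresented.winv [q] by
              simp [HNPresented.winv], hsplit, ih fun x hx => h x (List.mem_cons_of_mem _ hx),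
            show q :: v = [q] ++ v from rfl, hsplit, mul_inv_rev]
          congr 1
          simp only [HNPresented.winv, wordLy, List.map_cons, List.map_nil, List.prod_singleton,
            List.reverse_singleton]
          interval_cases q <;> simp [Nat.beq]
      rw [conjT, hsplit, hsplit, hwinv _ hh20, htel]
    have hmat : IsRep 111 (pword (flatW t.1 ++ conjT t.2.1)) (mat (el t.1 * wordLy (conjT t.2.1))) := by
      have e : el t.1 * wordLy (conjT t.2.1) = wordLy (flatW t.1 ++ conjT t.2.1) := by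
        rw [el_flatW]; simp [wordLy]
      rw [e, mat, phi_ev _ hlet]
      exact pword_rep _
    have hp := pk_rep hmat (bits7 t.2.2)
    rw [hbits, hpk] at hp
    have hpow : (el t.1 * wordLy (conjT t.2.1)) ^ t.2.2 = 1 := by
      refine hphi (Units.ext ?_)
      rw [map_pow, Units.val_pow_eq_pow_val, map_one, Units.val_one]
      exact hp.unique pone_rep
    rw [show t.2.2 = 2 * (t.2.2 / 2) + 1 by omega, hh] at hpow
    have hw2 : wordLy t.2.1 * el 28 * (wordLy t.2.1)⁻¹ * (wordLy t.2.1 * el 28 * (wordLy t.2.1)⁻¹) = 1 := by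
      calc _ = wordLy t.2.1 * (el 28 * el 28) * (wordLy t.2.1)⁻¹ := by group
        _ = 1 := by rw [hsq (by norm_num) hsq28]; simp
    obtain ⟨c, hc⟩ := conj_of_odd (hsq hlt h0) hw2 hpow
    exact ⟨c * wordLy t.2.1, by rw [← hc]; group⟩
  refine FusionNormal.isSimple_of_top_generated S.isPGroup' (Fusion.isSaturated_group S) ?_ ?_ ?_
  · intro h
    have h1 : el 1 = 1 := Subgroup.mem_bot.1 (h ▸ helS (by norm_num))
    exact absurd (el_injective (by norm_num) (by norm_num) (h1.trans (el_zero hphi).symm)) (by norm_num)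
  · intro T hT
    rcases eq_or_ne T ⊥ with hb | hb
    · exact Or.inl hb
    refine Or.inr (le_antisymm hT.1 ?_)
    have hmemT : ∀ {x}, x ∈ T → ∀ g, g * x * g⁻¹ ∈ (S : Subgroup Spor.Ly) → g * x * g⁻¹ ∈ T := by
      intro x hx g hg
      have hle : Subgroup.zpowers x ≤ T := Subgroup.zpowers_le.2 hx
      have hcS : (S : Subgroup Spor.Ly).comap (MulAut.conj g).toMonoidHom ≥ Subgroup.zpowers x :=
        Subgroup.zpowers_le.2 hg
      obtain ⟨ψ, hψ, e⟩ := Fusion.isMap_group_iff.2
        ⟨hle.trans hT.1, g, fun y hy => ⟨hcS hy, rfl⟩⟩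
      have := hT.2 _ hle ψ hψ ⟨x, Subgroup.mem_zpowers x⟩
      rwa [e x (Subgroup.mem_zpowers x)] at this
    have hTn : (T.subgroupOf (S : Subgroup Spor.Ly)).Normal := ⟨fun n hn g => by
      rw [Subgroup.mem_subgroupOf] at hn ⊢
      exact hmemT hn _ (mul_mem (mul_mem g.2 n.2) (inv_mem g.2))⟩
    have hne : T.subgroupOf (S : Subgroup Spor.Ly) ⊓ Subgroup.center (S : Subgroup Spor.Ly) ≠ ⊥ :=
      PGroup.inf_center_ne_bot S.isPGroup' fun e =>
        hb (by rw [← Subgroup.map_subgroupOf_eq_of_le hT.1, e, Subgroup.map_bot])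
    obtain ⟨⟨⟨w, hwS⟩, hw⟩, hw'⟩ := Subgroup.ne_bot_iff_exists_ne_one.1 hne
    have htT : el 28 ∈ T := by
      obtain ⟨a, ha, hae⟩ := (mem_S0 hphi).1 (hS ▸ hwS)
      subst hae
      have hr : ∀ j < 3, rmul j 0 < 256 := fun j hj => ((base_spec (by norm_num)).2.2.2.2 j hj).1
      rcases central_two ha (fun j hj => el_injective (m_lt ha (hr j hj)) (m_lt (hr j hj) ha) (by
          rw [el_m hphi ha (hr j hj), el_m hphi (hr j hj) ha]
          exact (congrArg Subtype.val (Subgroup.mem_center_iff.mp hw.2 ⟨_, helS (hr j hj)⟩)).symm)) with h | h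
      · subst h; exact absurd (Subtype.ext (Subtype.ext (el_zero hphi))) hw'
      · subst h; exact hw.1
    have hinv : ∀ i, el (invs.getD i (0, [], 0)).1 ∈ T := by
      intro i
      by_cases hi : i < invs.length
      · rw [List.getD_eq_getElem _ _ hi]
        obtain ⟨g, hg⟩ := hconj _ (List.getElem_mem hi)
        rw [← hg]
        exact hmemT htT g (hg ▸ helS (hinvs _ (List.getElem_mem hi)).1.1.1.1.1)
      · rw [List.getD_eq_default _ _ (by omega), el_zero hphi]
        exact one_mem T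
    have hlt : ∀ i, (invs.getD i (0, [], 0)).1 < 256 := by
      intro i
      by_cases hi : i < invs.length
      · rw [List.getD_eq_getElem _ _ hi]; exact (hinvs _ (List.getElem_mem hi)).1.1.1.1.1
      · rw [List.getD_eq_default _ _ (by omega)]; norm_num
    have hfrom : ∀ c : List ℕ, fromInv c < 256 ∧ el (fromInv c) ∈ T := by
      intro c
      induction c using List.reverseRecOn with
      | nil => exact ⟨by simp [fromInv], by simp [fromInv, el_zero hphi]⟩
      | append_singleton c i ih =>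
        simp only [fromInv, List.foldl_append, List.foldl_cons, List.foldl_nil] at ih ⊢
        exact ⟨m_lt ih.1 (hlt i), by rw [el_m hphi ih.1 (hlt i)]; exact mul_mem ih.2 (hinv i)⟩
    have hgen : ∀ j < 3, gen j ∈ T := by
      intro j hj
      have e : el (rmul j 0) = gen j := by rw [el_rmul hphi hj (by norm_num), el_zero hphi, one_mul]
      have h := gens_from_inv
      simp only [Bool.and_eq_true, Nat.beq_eq] at h
      rw [← e]
      interval_cases j
      · exact h.1.1 ▸ (hfrom _).2
      · exact h.1.2 ▸ (hfrom _).2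
      · exact h.2 ▸ (hfrom _).2
    intro y hy
    obtain ⟨a, ha, rfl⟩ := (mem_S0 hphi).1 (hS ▸ hy)
    refine T.list_prod_mem fun x hx => ?_
    obtain ⟨j, hj, rfl⟩ := List.mem_map.1 hx
    exact hgen j ((base_spec ha).1 j hj)
  · intro β hβ
    exact Subgroup.subset_closure ⟨hβ, Or.inl (aut_two hphi hS β)⟩

/-- The 2-fusion system of every Sylow subgroup is simple. -/
theorem fusion_simple [Finite Spor.Ly] (hcard : ¬ 2 ^ 9 ∣ Nat.card Spor.Ly) (T : Sylow 2 Spor.Ly) :
    (groupFusionSystem (T : Subgroup Spor.Ly)).IsSimple 2 := by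
  have : Fact (Nat.Prime 2) := ⟨Nat.prime_two⟩
  have hfac : (Nat.card Spor.Ly).factorization 2 = 8 := by
    have h6 : 2 ^ 8 ∣ Nat.card Spor.Ly := card_S0 hphi ▸ (S0 hphi).card_subgroup_dvd_card
    have hpos : Nat.card Spor.Ly ≠ 0 := Nat.card_pos.ne'
    have a := (Nat.Prime.pow_dvd_iff_le_factorization Nat.prime_two hpos).1 h6
    have b := mt (Nat.Prime.pow_dvd_iff_le_factorization (p := 2) (k := 9) Nat.prime_two hpos).2 hcard
    omega
  let S : Sylow 2 Spor.Ly := Sylow.ofCard (S0 hphi) (by rw [card_S0 hphi, hfac])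
  have hsimple := fusion_simple_aux hphi S (Sylow.coe_ofCard _ _)
  obtain ⟨g, rfl⟩ := MulAction.exists_smul_eq Spor.Ly S T
  exact isSimple_smul g S hsimple

end

/-- Transport to an isomorphic group. -/
theorem fusion_simple_of_iso {G : Type*} [Group G] [Finite G] (hG : Spor.IsoLy G) (hsimp : IsSimpleGroup Spor.Ly)
    (hcard : ¬ 2 ^ 9 ∣ Nat.card Spor.Ly) (S : Sylow 2 G) :
    (groupFusionSystem (S : Subgroup G)).IsSimple 2 := by
  obtain ⟨e⟩ := hG
  have : Finite Spor.Ly := Finite.of_equiv G e.toEquiv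
  have : Fact (Nat.Prime 2) := ⟨Nat.prime_two⟩
  exact Fusion3.isSimple_mulEquiv e.symm (fun T => haveI := hsimp; fusion_simple phi_injective hcard T) S

end Cfsg.Agent.LyonsFusion

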