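import Cfsg.Agent.Lib.CosetEnum.Pack
import Cfsg.Agent.Lib.LyonsFusion.Data

/-!
# The table of a group of order 256

* `rmul`, `follow`, `m` : right multiplications and the product
* `follow_congr` : words agreeing at the first element agree everywhere
* `cval`, `cval_m`, `sq_of_cval_zero`, `central_two`, `key_pairs`
-/

set_option autoImplicit false
set_option maxRecDepth 100000
set_option Elab.async false

namespace Cfsg.Agent.LyonsFusion

open Cfsg.Agent.CosetEnum (lane force force_eq)

/-- Right multiplication by a generator. -/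
noncomputable def rmul (j a : ℕ) : ℕ := lane 8 (rtabs.getD j 0) a

/-- Left multiplication by a generator. -/
noncomputable def lmul (j a : ℕ) : ℕ := lane 8 (ltabs.getD j 0) a

/-- Right multiplication by a word. -/
noncomputable def follow : List ℕ → ℕ → ℕ
  | [], a => a
  | j :: w, a => force (rmul j a) fun b => follow w b

/-- Left multiplication by a word. -/
noncomputable def lfollow : List ℕ → ℕ → ℕ
  | [], a => a
  | j :: w, a => force (lfollow w a) fun b => lmul j b

/-- The word of an element. -/
def word (a : ℕ) : List ℕ := words.getD a []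

/-- The product. -/
noncomputable def m (a b : ℕ) : ℕ := follow (word b) a

/-- The square. -/
noncomputable def sq (a : ℕ) : ℕ := m a a

/-- The coset of an element modulo the squares. -/
noncomputable def cval (a : ℕ) : ℕ := lane 3 cTab a

/-- The elements of the table. -/
noncomputable def baseOK : Bool :=
  (List.range 256).all fun a =>
    ((word a).all fun j => Nat.blt j 3) && Nat.beq (follow (word a) 0) a && Nat.beq (lfollow (word a) 0) a &&
      Nat.blt (cval a) 8 &&
      (List.range 3).all fun j => Nat.blt (rmul j a) 256 && Nat.blt (lmul j a) 256 &&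
        (List.range 3).all fun i => Nat.beq (rmul i (lmul j a)) (lmul j (rmul i a))

theorem base_check : baseOK = true := by decide +kernel

/-- The cosets. -/
noncomputable def cosetOK : Bool :=
  (List.range 256).all fun a =>
    ((List.range 3).all fun j => Nat.beq (cval (rmul j a)) (Nat.xor (cval a) (cval (rmul j 0)))) &&
      (!(Nat.beq (cval a) 0) || (Nat.blt (lane 8 sqrtTab a) 256 && Nat.beq (sq (lane 8 sqrtTab a)) a)) &&
      ((List.range 3).any (fun j => !(Nat.beq (m a (rmul j 0)) (m (rmul j 0) a))) || Nat.beq a 0 || Nat.beq a 28)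

theorem coset_check : cosetOK = true := by decide +kernel

theorem base_spec {a : ℕ} (ha : a < 256) :
    (∀ j ∈ word a, j < 3) ∧ follow (word a) 0 = a ∧ lfollow (word a) 0 = a ∧ cval a < 8 ∧
      ∀ j < 3, rmul j a < 256 ∧ lmul j a < 256 ∧ ∀ i < 3, rmul i (lmul j a) = lmul j (rmul i a) := by
  have h := List.all_eq_true.1 base_check a (List.mem_range.2 ha)
  simp only [Bool.and_eq_true, List.all_eq_true, List.mem_range, Nat.blt_eq, Nat.beq_eq] at h
  exact ⟨h.1.1.1.1, h.1.1.1.2, h.1.1.2, h.1.2, fun j hj => ⟨(h.2 j hj).1.1, (h.2 j hj).1.2, (h.2 j hj).2⟩⟩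

theorem follow_append : ∀ (v w : List ℕ) (a : ℕ), follow (v ++ w) a = follow w (follow v a)
  | [], _, _ => rfl
  | j :: v, w, a => by
    simp only [List.cons_append, follow, force_eq]
    exact follow_append v w _

theorem follow_lt : ∀ {w : List ℕ}, (∀ j ∈ w, j < 3) → ∀ {a : ℕ}, a < 256 → follow w a < 256
  | [], _, _, ha => ha
  | j :: w, hw, a, ha => by
    simp only [follow, force_eq]
    exact follow_lt (fun i hi => hw i (List.mem_cons_of_mem _ hi))
      ((base_spec ha).2.2.2.2 j (hw j List.mem_cons_self)).1

theorem follow_lmul : ∀ {w : List ℕ}, (∀ j ∈ w, j < 3) → ∀ {j : ℕ}, j < 3 → ∀ {a : ℕ}, a < 256 →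
    follow w (lmul j a) = lmul j (follow w a)
  | [], _, _, _, _, _ => rfl
  | i :: w, hw, j, hj, a, ha => by
    simp only [follow, force_eq]
    have h := (base_spec ha).2.2.2.2
    rw [(h j hj).2.2 i (hw i List.mem_cons_self),
      follow_lmul (fun k hk => hw k (List.mem_cons_of_mem _ hk)) hj (h i (hw i List.mem_cons_self)).1]

theorem follow_lfollow {w : List ℕ} (hw : ∀ j ∈ w, j < 3) : ∀ {v : List ℕ}, (∀ j ∈ v, j < 3) →
    lfollow v 0 < 256 ∧ follow w (lfollow v 0) = lfollow v (follow w 0)
  | [], _ => ⟨by simp [lfollow], rfl⟩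
  | j :: v, hv => by
    obtain ⟨h1, h2⟩ := follow_lfollow hw fun i hi => hv i (List.mem_cons_of_mem j hi)
    simp only [lfollow, force_eq]
    exact ⟨((base_spec h1).2.2.2.2 j (hv j List.mem_cons_self)).2.1,
      by rw [follow_lmul hw (hv j List.mem_cons_self) h1, h2]⟩

theorem follow_congr {v w : List ℕ} (hv : ∀ j ∈ v, j < 3) (hw : ∀ j ∈ w, j < 3)
    (h : follow v 0 = follow w 0) {a : ℕ} (ha : a < 256) : follow v a = follow w a := by
  obtain ⟨hwa, -, hla, -, -⟩ := base_spec ha
  rw [← hla, (follow_lfollow hv hwa).2, (follow_lfollow hw hwa).2, h]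

theorem m_lt {a b : ℕ} (ha : a < 256) (hb : b < 256) : m a b < 256 := follow_lt (base_spec hb).1 ha

theorem cval_follow : ∀ {w : List ℕ}, (∀ j ∈ w, j < 3) → ∀ {a : ℕ}, a < 256 →
    cval (follow w a) = cval a ^^^ cval (follow w 0)
  | [], _, a, _ => by
    have h0 : cval 0 = 0 := by decide +kernel
    simp [follow, h0]
  | j :: w, hw, a, ha => by
    have hj := hw j List.mem_cons_self
    have hw' : ∀ i ∈ w, i < 3 := fun i hi => hw i (List.mem_cons_of_mem _ hi)
    have hc : ∀ x < 256, cval (rmul j x) = cval x ^^^ cval (rmul j 0) := fun x hx => by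
      have h := List.all_eq_true.1 coset_check x (List.mem_range.2 hx)
      simp only [Bool.and_eq_true, List.all_eq_true, List.mem_range, Nat.beq_eq] at h
      exact h.1.1 j hj
    simp only [follow, force_eq]
    rw [cval_follow hw' ((base_spec ha).2.2.2.2 j hj).1,
      cval_follow hw' ((base_spec (show (0 : ℕ) < 256 by omega)).2.2.2.2 j hj).1, hc a ha, Nat.xor_assoc]

theorem cval_m {a b : ℕ} (ha : a < 256) (hb : b < 256) : cval (m a b) = cval a ^^^ cval b := by
  obtain ⟨hwb, hfb, -⟩ := base_spec hb
  rw [m, cval_follow hwb ha, hfb]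

theorem cval_sq {a : ℕ} (ha : a < 256) : cval (sq a) = 0 := by rw [sq, cval_m ha ha, Nat.xor_self]

theorem sq_of_cval_zero {a : ℕ} (ha : a < 256) (h : cval a = 0) : ∃ x < 256, sq x = a := by
  have hc := List.all_eq_true.1 coset_check a (List.mem_range.2 ha)
  simp only [Bool.and_eq_true, Bool.or_eq_true, Bool.not_eq_true', Nat.beq_eq, Nat.blt_eq] at hc
  rcases hc.1.2 with h2 | ⟨h3, h4⟩
  · rw [h, Nat.beq_refl] at h2; simp at h2
  · exact ⟨_, h3, h4⟩

theorem central_two {a : ℕ} (ha : a < 256) (h : ∀ j < 3, m a (rmul j 0) = m (rmul j 0) a) : a = 0 ∨ a = 28 := by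
  have hc := List.all_eq_true.1 coset_check a (List.mem_range.2 ha)
  simp only [Bool.and_eq_true, Bool.or_eq_true, List.any_eq_true, List.mem_range, Bool.not_eq_true',
    Nat.beq_eq] at hc
  rcases hc.2 with (⟨j, hj, hne⟩ | h2) | h2
  · rw [h j hj, Nat.beq_refl] at hne; simp at hne
  · exact Or.inl h2
  · exact Or.inr h2

/-- Whether a coset contains elements of order 2, of order 4, of larger order. -/
noncomputable def key (v : ℕ) : Bool × Bool × Bool :=
  ((List.range 256).any fun a => Nat.beq (cval a) v && !(Nat.beq a 0) && Nat.beq (sq a) 0,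
    (List.range 256).any fun a => Nat.beq (cval a) v && !(Nat.beq (sq a) 0) && Nat.beq (sq (sq a)) 0,
    (List.range 256).any fun a => Nat.beq (cval a) v && !(Nat.beq (sq (sq a)) 0))

theorem key_eq : (List.range 8).map key = [(true, true, false), (true, true, true), (true, false, true),
    (true, true, true), (false, false, true), (false, false, true), (false, true, false), (true, true, false)] := by
  decide +kernel

theorem key_pairs {u v w : ℕ} (hu : u < 8) (hv : v < 8) (hw : w < 8) (h1 : key u = key v) (h2 : key v = key w) :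
    u = v ∨ v = w ∨ u = w := by
  set l := [(true, true, false), (true, true, true), (true, false, true), (true, true, true),
    (false, false, true), (false, false, true), (false, true, false), (true, true, false)] with hl
  have hk : ∀ x < 8, key x = l.getD x (false, false, false) := by
    intro x hx
    rw [hl, ← key_eq, List.getD_eq_getElem _ _ (by simpa using hx)]
    simp
  rw [hk u hu, hk v hv] at h1
  rw [hk v hv, hk w hw] at h2
  have key : ∀ a b c : Fin 8, l.getD a (false, false, false) = l.getD b (false, false, false) →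
      l.getD b (false, false, false) = l.getD c (false, false, false) → a = b ∨ b = c ∨ a = c := by
    rw [hl]; decide
  rcases key ⟨u, hu⟩ ⟨v, hv⟩ ⟨w, hw⟩ h1 h2 with h | h | h
  · exact Or.inl (congrArg Fin.val h)
  · exact Or.inr (Or.inl (congrArg Fin.val h))
  · exact Or.inr (Or.inr (congrArg Fin.val h))

end Cfsg.Agent.LyonsFusion
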